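import Cfsg.Prelude.Def_Spor_Fi24

set_option autoImplicit false

namespace Cfsg.Agent.SporB

open Cfsg.Spor

/-- The common sign of the generators of `Fi24`. -/
def fi24Sign : Fi24.Gen → Multiplicative (ZMod 2) := fun _ => Multiplicative.ofAdd 1

theorem fi24Sign_relators :
    ∀ r ∈ coxRelators Fi24.edges ∪ {r | r ∈ Fi24.extra}, FreeGroup.lift fi24Sign r = 1 := by
  rintro r (⟨x, -, y, -, rfl⟩ | hr)
  · rw [map_pow, map_mul, FreeGroup.lift_apply_of, FreeGroup.lift_apply_of]
    have : fi24Sign x * fi24Sign y = 1 := by
      show (Multiplicative.ofAdd (1 : ZMod 2)) * Multiplicative.ofAdd (1 : ZMod 2) = 1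
      decide
    rw [this, one_pow]
  · simp only [Fi24.extra, List.mem_cons, List.not_mem_nil, or_false, Set.mem_ofPred_eq] at hr
    rcases hr with rfl | rfl <;>
      simp only [map_mul, map_inv, map_pow, FreeGroup.lift_apply_of] <;> decide

/-- The sign character of `Fi24`. -/
def fi24SignHom : Fi24 →* Multiplicative (ZMod 2) := PresentedGroup.toGroup fi24Sign_relators

theorem eq_of_edge {A : Type*} [CommGroup A] {u v : A} (hu : u * u = 1) (hv : v * v = 1)
    (h : (u * v) ^ 3 = 1) : u = v := by
  have h2 : (u * v) ^ 2 = 1 := by rw [mul_pow, pow_two, pow_two, hu, hv, one_mul]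
  have h1 : u * v = 1 := by
    have := h
    rwa [pow_succ, h2, one_mul] at this
  rw [← mul_one u, ← hv, ← mul_assoc, h1, one_mul]

theorem fi24_commutator_index : (commutator Fi24).index = 2 := by
  let v : Fi24.Gen → Abelianization Fi24 := fun x => Abelianization.of (PresentedGroup.of x)
  have hrel : ∀ x y : Fi24.Gen, x ∈ coxNodes Fi24.edges → y ∈ coxNodes Fi24.edges →
      (v x * v y) ^ coxLabel Fi24.edges x y = 1 := by
    intro x y hx hy
    have h1 : PresentedGroup.mk (coxRelators Fi24.edges ∪ {r | r ∈ Fi24.extra})
        ((FreeGroup.of x * FreeGroup.of y) ^ coxLabel Fi24.edges x y) = 1 :=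
      (PresentedGroup.one_of_mem (Or.inl ⟨x, hx, y, hy, rfl⟩))
    have h2 := congrArg Abelianization.of h1
    rw [map_one, map_pow, map_mul, map_pow, map_mul] at h2
    exact h2
  have hsq : ∀ x : Fi24.Gen, v x * v x = 1 := by
    intro x
    have hx : x ∈ coxNodes Fi24.edges := by cases x <;> decide
    have := hrel x x hx hx
    rwa [show coxLabel Fi24.edges x x = 1 by simp [coxLabel], pow_one] at this
  have hedge : ∀ x y : Fi24.Gen, x ∈ coxNodes Fi24.edges → y ∈ coxNodes Fi24.edges →
      coxLabel Fi24.edges x y = 3 → v x = v y := by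
    intro x y hx hy h3
    have := hrel x y hx hy
    rw [h3] at this
    exact eq_of_edge (hsq x) (hsq y) this
  have el := hedge .l .k (by decide) (by decide) (by decide)
  have ek := hedge .k .a (by decide) (by decide) (by decide)
  have ea := hedge .a .b (by decide) (by decide) (by decide)
  have eb := hedge .b .c (by decide) (by decide) (by decide)
  have ec := hedge .c .d (by decide) (by decide) (by decide)
  have ee := hedge .d .e (by decide) (by decide) (by decide)
  have eh := hedge .d .h (by decide) (by decide) (by decide)
  have ef := hedge .e .f (by decide) (by decide) (by decide)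
  have eg := hedge .f .g (by decide) (by decide) (by decide)
  have ej := hedge .g .j (by decide) (by decide) (by decide)
  have ei := hedge .h .i (by decide) (by decide) (by decide)
  have hall : ∀ x : Fi24.Gen, v x = v .l := by
    intro x
    cases x <;> simp only [← ei, ← eh, ← ej, ← eg, ← ef, ← ee, ← ec, ← eb, ← ea, ← ek, ← el]
  let g : Abelianization Fi24 →* Multiplicative (ZMod 2) := Abelianization.lift fi24SignHom
  have hg : Function.Bijective g := by
    have hgl : g (v .l) = Multiplicative.ofAdd 1 := by
      simp only [g, v, Abelianization.lift_apply_of]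
      rfl
    have hcases : ∀ q : Abelianization Fi24, q = 1 ∨ q = v .l := by
      intro q
      obtain ⟨x, hx⟩ : ∃ x, Abelianization.of x = q := QuotientGroup.mk_surjective q
      subst hx
      induction (show x ∈ Subgroup.closure (Set.range (PresentedGroup.of (rels :=
          coxRelators Fi24.edges ∪ {r | r ∈ Fi24.extra}))) by
          rw [PresentedGroup.closure_range_of]; trivial) using Subgroup.closure_induction with
      | mem y hy => obtain ⟨i, rfl⟩ := hy; exact Or.inr (hall i)
      | one => exact Or.inl (map_one _)
      | mul y z _ _ h1 h2 =>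
        rw [map_mul]
        rcases h1 with h1 | h1 <;> rcases h2 with h2 | h2 <;> rw [h1, h2]
        · exact Or.inl (one_mul _)
        · exact Or.inr (one_mul _)
        · exact Or.inr (mul_one _)
        · exact Or.inl (hsq _)
      | inv y _ h1 =>
        rw [map_inv]
        rcases h1 with h1 | h1 <;> rw [h1]
        · exact Or.inl inv_one
        · exact Or.inr (inv_eq_of_mul_eq_one_right (hsq _))
    refine ⟨?_, ?_⟩
    · rw [injective_iff_map_eq_one]
      intro q hq
      rcases hcases q with rfl | rfl
      · rfl
      · rw [hgl] at hq; exact absurd hq (by decide)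
    · intro y
      rcases (by decide : ∀ y : Multiplicative (ZMod 2), y = 1 ∨ y = Multiplicative.ofAdd 1) y with rfl | rfl
      exacts [⟨1, map_one _⟩, ⟨_, hgl⟩]
  rw [Subgroup.index_eq_card]
  show Nat.card (Abelianization Fi24) = 2
  rw [Nat.card_congr (Equiv.ofBijective g hg)]
  simp

end Cfsg.Agent.SporB
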