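import Cfsg.Prelude.Def_SporadicB

set_option autoImplicit false
set_option linter.style.haveILetI false

namespace Cfsg.Agent.SporB

variable {G : Type*} [Group G]

theorem mem_sylow_of_commute [Finite G] {t : G} (ht : orderOf t = 2) (P : Sylow 2 G)
    (h : ∀ x ∈ P, x * t = t * x) : t ∈ P := by
  haveI : Fact (Nat.Prime 2) := ⟨Nat.prime_two⟩
  have hp : IsPGroup 2 (Subgroup.zpowers t) :=
    IsPGroup.of_card (n := 1) (by rw [Nat.card_zpowers, ht, pow_one])
  have hle : Subgroup.zpowers t ≤ Subgroup.normalizer ((P : Subgroup G) : Set G) := by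
    rw [Subgroup.zpowers_le, Subgroup.mem_normalizer_iff]
    intro x
    refine ⟨fun hx => ?_, fun hx => ?_⟩
    · rw [← h x hx, mul_assoc, mul_inv_cancel, mul_one]
      exact hx
    · have := h _ hx
      rw [inv_mul_cancel_right, mul_assoc t x t⁻¹] at this
      have e : t * x * t⁻¹ = x := by
        have h2 : t * x = t * (t * (x * t⁻¹)) := this
        have h3 := mul_left_cancel h2
        rw [mul_assoc]; exact h3.symm
      rw [e] at hx
      exact hx
  have h1 := hp.inf_normalizer_sylow P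
  have h2 : t ∈ Subgroup.zpowers t ⊓ (P : Subgroup G) :=
    h1 ▸ (Subgroup.mem_inf.mpr ⟨Subgroup.mem_zpowers t, hle (Subgroup.mem_zpowers t)⟩)
  exact (Subgroup.mem_inf.mp h2).2

theorem twoCentral_iff [Finite G] {t : G} (ht : orderOf t = 2) :
    Cfsg.IsTwoCentralInvolution t ↔
      ∃ P : Sylow 2 G, (P : Subgroup G) ≤ Subgroup.centralizer ({t} : Set G) := by
  constructor
  · rintro ⟨-, P, -, hP⟩
    exact ⟨P, fun x hx => Subgroup.mem_centralizer_singleton_iff.mpr (hP x hx)⟩
  · rintro ⟨P, hP⟩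
    have h : ∀ x ∈ P, x * t = t * x := fun x hx =>
      Subgroup.mem_centralizer_singleton_iff.mp (hP hx)
    exact ⟨ht, P, mem_sylow_of_commute ht P h, h⟩

theorem exists_twoCentral [Finite G] (h : Even (Nat.card G)) :
    ∃ t : G, Cfsg.IsTwoCentralInvolution t := by
  haveI : Fact (Nat.Prime 2) := ⟨Nat.prime_two⟩
  let P : Sylow 2 G := default
  haveI : Nontrivial (P : Subgroup G) := by
    rw [Subgroup.nontrivial_iff_ne_bot]
    exact P.ne_bot_of_dvd_card (even_iff_two_dvd.mp h)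
  have hb := P.2.bot_lt_center
  haveI : Nontrivial (Subgroup.center (P : Subgroup G)) :=
    (Subgroup.nontrivial_iff_ne_bot _).mpr hb.ne'
  obtain ⟨n, hn, hc⟩ := (P.2.to_subgroup (Subgroup.center _)).nontrivial_iff_card.mp inferInstance
  obtain ⟨z, hz⟩ := exists_prime_orderOf_dvd_card' 2
    (show 2 ∣ Nat.card (Subgroup.center (P : Subgroup G)) by rw [hc]; exact dvd_pow_self 2 (by omega))
  refine ⟨((z : (P : Subgroup G)) : G), ?_, P, (z : (P : Subgroup G)).2, fun x hx => ?_⟩
  · rw [Subgroup.orderOf_coe, Subgroup.orderOf_coe, hz]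
  · exact congrArg Subtype.val (Subgroup.mem_center_iff.mp z.2 ⟨x, hx⟩)

/-- If `T` is a Sylow 2-subgroup of the centralizer of `z` whose centralizing part is `{1, z}`,
then `T` is a Sylow 2-subgroup of `G`. -/
theorem sylow_of_centre [Finite G] {z : G} (T : Subgroup G) (hT : IsPGroup 2 T) (hzT : z ∈ T)
    (hTC : T ≤ Subgroup.centralizer ({z} : Set G))
    (hmax : ∀ S : Subgroup G, IsPGroup 2 S → T ≤ S → S ≤ Subgroup.centralizer ({z} : Set G) → S = T)
    (hz1 : z ≠ 1) (hcen : ∀ x ∈ T, (∀ y ∈ T, y * x = x * y) → x = 1 ∨ x = z) :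
    ∃ P : Sylow 2 G, (P : Subgroup G) = T := by
  haveI : Fact (Nat.Prime 2) := ⟨Nat.prime_two⟩
  obtain ⟨P, hP⟩ := hT.exists_le_sylow
  refine ⟨P, ?_⟩
  by_contra hne
  have hlt : T.subgroupOf (P : Subgroup G) < ⊤ := by
    rw [lt_top_iff_ne_top]
    intro h
    exact hne (le_antisymm (Subgroup.subgroupOf_eq_top.mp h) hP)
  haveI : Group.IsNilpotent (P : Subgroup G) := P.2.isNilpotent
  have h1 := Group.normalizerCondition_of_isNilpotent _ hlt
  obtain ⟨g, hg, hgT⟩ := SetLike.exists_of_lt h1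
  apply hgT
  rw [Subgroup.mem_subgroupOf]
  rw [Subgroup.mem_normalizer_iff] at hg
  have hconj : ∀ x : G, x ∈ T ↔ (g : G) * x * (g : G)⁻¹ ∈ T := by
    intro x
    constructor
    · intro hx
      have := (hg ⟨x, hP hx⟩).mp (Subgroup.mem_subgroupOf.mpr hx)
      simpa [Subgroup.mem_subgroupOf] using this
    · intro hx
      have h' : (g : G)⁻¹ * ((g : G) * x * (g : G)⁻¹) * (g : G) ∈ (P : Subgroup G) :=
        mul_mem (mul_mem (inv_mem g.2) (hP hx)) g.2
      have hxP : x ∈ (P : Subgroup G) := by simpa [mul_assoc] using h'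
      have := (hg ⟨x, hxP⟩).mpr (by simpa [Subgroup.mem_subgroupOf] using hx)
      simpa [Subgroup.mem_subgroupOf] using this
  have hgz : (g : G) * z * (g : G)⁻¹ = z := by
    refine (hcen _ ((hconj z).mp hzT) fun y hy => ?_).resolve_left ?_
    · have hy' : (g : G)⁻¹ * y * (g : G) ∈ T := (hconj _).mpr (by simpa [mul_assoc] using hy)
      have h2 := Subgroup.mem_centralizer_singleton_iff.mp (hTC hy')
      calc y * ((g : G) * z * (g : G)⁻¹) = (g : G) * (((g : G)⁻¹ * y * (g : G)) * z) * (g : G)⁻¹ := by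
            simp [mul_assoc]
        _ = (g : G) * (z * ((g : G)⁻¹ * y * (g : G))) * (g : G)⁻¹ := by rw [h2]
        _ = ((g : G) * z * (g : G)⁻¹) * y := by simp [mul_assoc]
    · intro h
      exact hz1 (conj_eq_one_iff.mp h)
  have hgC : (g : G) ∈ Subgroup.centralizer ({z} : Set G) :=
    Subgroup.mem_centralizer_singleton_iff.mpr (mul_inv_eq_iff_eq_mul.mp hgz)
  let S : Subgroup G := T ⊔ Subgroup.zpowers (g : G)
  have hS : IsPGroup 2 S := P.2.to_le (sup_le hP ((Subgroup.zpowers_le).mpr g.2))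
  have hSC : S ≤ Subgroup.centralizer ({z} : Set G) := sup_le hTC ((Subgroup.zpowers_le).mpr hgC)
  rw [← hmax S hS le_sup_left hSC]
  exact Subgroup.mem_sup_right (Subgroup.mem_zpowers _)

/-- As `sylow_of_centre`, for a Sylow 2-subgroup of the centralizer. -/
theorem sylow_centralizer [Finite G] {z : G} (hz : orderOf z = 2)
    (T : Sylow 2 (Subgroup.centralizer ({z} : Set G)))
    (hcen : ∀ x ∈ T, (∀ y ∈ T, y * x = x * y) → (x : G) = 1 ∨ (x : G) = z) :
    ∃ P : Sylow 2 G, (P : Subgroup G) =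
      (T : Subgroup (Subgroup.centralizer ({z} : Set G))).map (Subgroup.subtype _) := by
  let C := Subgroup.centralizer ({z} : Set G)
  have hzC : z ∈ C := Subgroup.mem_centralizer_singleton_iff.mpr rfl
  have hzT : (⟨z, hzC⟩ : C) ∈ T := by
    refine mem_sylow_of_commute ?_ T fun x _ => ?_
    · rw [← hz]; exact (Subgroup.orderOf_coe (⟨z, hzC⟩ : C)).symm
    · exact Subtype.ext (Subgroup.mem_centralizer_singleton_iff.mp x.2)
  refine sylow_of_centre _ (T.2.map _) ⟨⟨z, hzC⟩, hzT, rfl⟩ (Subgroup.map_subtype_le _) ?_ ?_ ?_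
  · intro S hS hTS hSC
    have h1 : IsPGroup 2 (S.subgroupOf C) := hS.comap_subtype
    have h2 : (T : Subgroup C) ≤ S.subgroupOf C := fun x hx =>
      Subgroup.mem_subgroupOf.mpr (hTS ⟨x, hx, rfl⟩)
    have h3 := T.is_maximal' h1 h2
    rw [← h3]
    exact (Subgroup.map_subgroupOf_eq_of_le hSC).symm
  · intro (h : z = 1)
    simp [h] at hz
  · rintro x ⟨x', hx', rfl⟩ hy
    exact hcen x' hx' fun y hy' => Subtype.ext (hy _ ⟨y, hy', rfl⟩)

end Cfsg.Agent.SporB
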