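import Cfsg.Agent.Lib.ThreeTransp.Basic

set_option autoImplicit false
set_option linter.style.haveILetI false

namespace Cfsg.Agent.SporB

theorem zmod3_pow_add {G : Type*} [Group G] {r : G} (h : r ^ 3 = 1) :
    ∀ i j : ZMod 3, r ^ (i + j).val = r ^ i.val * r ^ j.val := by
  intro i j
  rw [← pow_add, ZMod.val_add, ← pow_eq_pow_mod _ h]

/-- The homomorphism from the dihedral group attached to a pair `(r, s)`. -/
def dihedralThreeHom {G : Type*} [Group G] (r s : G) (h : r ^ 3 = 1) (hs : s * s = 1)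
    (hsr : r * s = s * r⁻¹) : DihedralGroup 3 →* G :=
  MonoidHom.mk' (fun x => match x with
      | .r i => r ^ i.val
      | .sr i => s * r ^ i.val) (by
    have hadd := zmod3_pow_add h
    have hneg : ∀ i : ZMod 3, r ^ (-i).val = (r ^ i.val)⁻¹ := fun i => by
      apply eq_inv_of_mul_eq_one_left
      rw [← hadd, neg_add_cancel, ZMod.val_zero, pow_zero]
    have hcomm : ∀ n : ℕ, r ^ n * s = s * (r ^ n)⁻¹ := fun n => by
      have hh : SemiconjBy s r⁻¹ r := hsr.symm
      have := (hh.pow_right n).eq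
      rw [inv_pow] at this
      exact this.symm
    rintro (i | i) (j | j)
    · exact hadd i j
    · show s * r ^ (j - i).val = r ^ i.val * (s * r ^ j.val)
      rw [← mul_assoc, hcomm, mul_assoc, ← hneg, ← hadd, neg_add_eq_sub]
    · show s * r ^ (i + j).val = s * r ^ i.val * r ^ j.val
      rw [hadd, mul_assoc]
    · show r ^ (j - i).val = s * r ^ i.val * (s * r ^ j.val)
      rw [← mul_assoc, mul_assoc s, hcomm, ← mul_assoc, hs, one_mul, ← hneg, ← hadd, neg_add_eq_sub])

theorem dihedralThree_equiv : Nonempty (DihedralGroup 3 ≃* Equiv.Perm (Fin 3)) := by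
  have h1 : (finRotate 3) ^ 3 = 1 := by decide
  have h2 : Equiv.swap (0 : Fin 3) 1 * Equiv.swap (0 : Fin 3) 1 = 1 := by decide
  have h3 : finRotate 3 * Equiv.swap (0 : Fin 3) 1 = Equiv.swap (0 : Fin 3) 1 * (finRotate 3)⁻¹ := by
    decide
  let f := dihedralThreeHom (finRotate 3) (Equiv.swap (0 : Fin 3) 1) h1 h2 h3
  refine ⟨MulEquiv.ofBijective f ((Fintype.bijective_iff_surjective_and_card f).mpr ⟨?_, ?_⟩)⟩
  · intro σ
    have : ∀ σ : Equiv.Perm (Fin 3), (∃ i : ZMod 3, (finRotate 3) ^ i.val = σ) ∨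
        (∃ i : ZMod 3, Equiv.swap (0 : Fin 3) 1 * (finRotate 3) ^ i.val = σ) := by decide
    rcases this σ with ⟨i, hi⟩ | ⟨i, hi⟩
    exacts [⟨.r i, hi⟩, ⟨.sr i, hi⟩]
  · rw [DihedralGroup.card]; rfl

theorem closure_pair_sym3 {G : Type*} [Group G] {E : Set G}
    (hE : Cfsg.IsThreeTranspositionSet E) {d e : G} (hd : d ∈ E) (he : e ∈ E)
    (h : ¬ Commute d e) :
    Nonempty (Subgroup.closure ({d, e} : Set G) ≃* Equiv.Perm (Fin 3)) := by
  have hr := ThreeTransp.pow_three_of_not_commute hE hd he h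
  have hsr : (d * e) * d = d * (d * e)⁻¹ := by
    rw [mul_inv_rev, ThreeTransp.inv_eq hE hd, ThreeTransp.inv_eq hE he, mul_assoc]
  let f := dihedralThreeHom (d * e) d hr (ThreeTransp.sq_one hE hd) hsr
  have hdne : ∀ n : ℕ, d ≠ (d * e) ^ n := by
    intro n hn
    apply h
    have hc : Commute ((d * e) ^ n) (d * e) := (Commute.refl (d * e)).pow_left n
    rw [← hn] at hc
    have := (Commute.refl d).mul_right hc
    rwa [ThreeTransp.mul_self_cancel hE hd] at this
  have hpow : ∀ i : ZMod 3, (d * e) ^ i.val = 1 → i = 0 := fun i hi => by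
    have h3 := orderOf_dvd_of_pow_eq_one hi
    rw [ThreeTransp.orderOf_mul_of_not_commute hE hd he h] at h3
    have := ZMod.val_lt i
    exact (ZMod.val_eq_zero i).mp (Nat.eq_zero_of_dvd_of_lt h3 this)
  have hinj : Function.Injective f := by
    rw [injective_iff_map_eq_one]
    rintro (i | i) hi
    · change (d * e) ^ i.val = 1 at hi
      rw [hpow i hi]; rfl
    · change d * (d * e) ^ i.val = 1 at hi
      exfalso
      have h4 : d = (d * e) ^ i.val := by
        exact (ThreeTransp.inv_eq hE hd).symm.trans (inv_eq_of_mul_eq_one_right hi)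
      exact hdne _ h4
  have hrange : f.range = Subgroup.closure ({d, e} : Set G) := by
    have hdm : d ∈ Subgroup.closure ({d, e} : Set G) := Subgroup.subset_closure (by simp)
    have hem : e ∈ Subgroup.closure ({d, e} : Set G) := Subgroup.subset_closure (by simp)
    refine le_antisymm ?_ ((Subgroup.closure_le _).mpr ?_)
    · rintro _ ⟨i | i, rfl⟩
      · exact pow_mem (mul_mem hdm hem) _
      · exact mul_mem hdm (pow_mem (mul_mem hdm hem) _)
    · rintro x (rfl | rfl)
      · exact ⟨.sr 0, by show x * (x * e) ^ 0 = x; simp⟩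
      · refine ⟨.sr 1, ?_⟩
        show d * (d * x) ^ 1 = x
        rw [pow_one, ThreeTransp.mul_self_cancel hE hd]
  obtain ⟨φ⟩ := dihedralThree_equiv
  exact ⟨((f.ofInjective hinj).trans (MulEquiv.subgroupCongr hrange)).symm.trans φ⟩

end Cfsg.Agent.SporB
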