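import Cfsg.Agent.SporB.TwoCentral

set_option autoImplicit false
set_option linter.style.haveILetI false

namespace Cfsg.Agent.SporB.SL5

open Matrix

abbrev F2 : Type := ZMod 2
abbrev SL5 : Type := Matrix.SpecialLinearGroup (Fin 5) F2
abbrev SL3 : Type := Matrix.SpecialLinearGroup (Fin 3) F2

theorem f2_eq_one {x : F2} (h : x ≠ 0) : x = 1 := by
  revert x; decide

/-- Commuting with a single entry matrix kills the column and the row through it. -/
theorem commute_single {n : Type*} [Fintype n] [DecidableEq n] {M : Matrix n n F2} {p q : n}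
    (h : M * Matrix.single p q 1 = Matrix.single p q 1 * M) :
    (∀ i, i ≠ p → M i p = 0) ∧ (∀ j, j ≠ q → M q j = 0) ∧ M p p = M q q := by
  refine ⟨fun i hi => ?_, fun j hj => ?_, ?_⟩
  · have := congrFun (congrFun h i) q
    simpa [Matrix.single_mul_apply_of_ne, hi] using this
  · have := congrFun (congrFun h p) j
    simpa [Matrix.mul_single_apply_of_ne, hj] using this.symm
  · have := congrFun (congrFun h p) q
    simpa using this

theorem commute_transvection {n : Type*} [Fintype n] [DecidableEq n] {M : Matrix n n F2} {p q : n}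
    (h : M * Matrix.transvection p q 1 = Matrix.transvection p q 1 * M) :
    M * Matrix.single p q 1 = Matrix.single p q 1 * M := by
  simpa [Matrix.transvection, mul_add, add_mul] using h

/-- The matrix with the given parameters. -/
def mk (a : F2) (u v : Fin 3 → F2) (A : Matrix (Fin 3) (Fin 3) F2) : Matrix (Fin 5) (Fin 5) F2 :=
  !![1, a, u 0, u 1, u 2;
     0, 1, 0, 0, 0;
     0, v 0, A 0 0, A 0 1, A 0 2;
     0, v 1, A 1 0, A 1 1, A 1 2;
     0, v 2, A 2 0, A 2 1, A 2 2]

theorem det_mk (a : F2) (u v : Fin 3 → F2) (A : Matrix (Fin 3) (Fin 3) F2) :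
    (mk a u v A).det = A.det := by
  rw [Matrix.det_succ_column_zero]
  simp [mk, Fin.sum_univ_succ, Matrix.det_succ_row_zero]

variable (s : SL5) (hs : (s : Matrix (Fin 5) (Fin 5) F2) = Matrix.transvection 0 1 1)

/-- The block of `g`. -/
def blk (g : SL5) : Matrix (Fin 3) (Fin 3) F2 :=
  Matrix.of fun i j => (g : Matrix (Fin 5) (Fin 5) F2) i.succ.succ j.succ.succ

abbrev C : Subgroup SL5 := Subgroup.centralizer ({s} : Set SL5)

include hs

theorem mem_iff (g : SL5) : g ∈ C s ↔
    ((∀ i, i ≠ 0 → (g : Matrix (Fin 5) (Fin 5) F2) i 0 = 0) ∧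
     (∀ j, j ≠ 1 → (g : Matrix (Fin 5) (Fin 5) F2) 1 j = 0) ∧
      (g : Matrix (Fin 5) (Fin 5) F2) 0 0 = (g : Matrix (Fin 5) (Fin 5) F2) 1 1) := by
  have key : g * s = s * g ↔ (g : Matrix (Fin 5) (Fin 5) F2) * (s : Matrix (Fin 5) (Fin 5) F2) =
      (s : Matrix (Fin 5) (Fin 5) F2) * (g : Matrix (Fin 5) (Fin 5) F2) :=
    ⟨fun h => congrArg Subtype.val h, fun h => Subtype.ext h⟩
  rw [Subgroup.mem_centralizer_singleton_iff, key, hs]
  constructor
  · exact fun h => commute_single (commute_transvection h)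
  · rintro ⟨h1, h2, h3⟩
    simp only [Matrix.transvection, mul_add, add_mul, mul_one, one_mul, add_right_inj]
    ext i j
    by_cases hj : j = 1
    · subst hj
      by_cases hi : i = 0
      · subst hi; simp [h3]
      · simp [Matrix.single_mul_apply_of_ne, hi, h1 i hi]
    · by_cases hi : i = 0
      · subst hi; simp [Matrix.mul_single_apply_of_ne, hj, h2 j hj]
      · simp [Matrix.mul_single_apply_of_ne, Matrix.single_mul_apply_of_ne, hi, hj]

theorem diag_one {g : SL5} (hg : g ∈ C s) :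
    (g : Matrix (Fin 5) (Fin 5) F2) 0 0 = 1 ∧ (g : Matrix (Fin 5) (Fin 5) F2) 1 1 = 1 := by
  obtain ⟨h1, -, h3⟩ := (mem_iff s hs g).mp hg
  have : (g : Matrix (Fin 5) (Fin 5) F2) 0 0 = 1 := by
    refine f2_eq_one fun h0 => ?_
    have hd := g.det_coe
    rw [Matrix.det_eq_zero_of_column_eq_zero 0 (fun i => ?_)] at hd
    · exact one_ne_zero hd.symm
    · by_cases hi : i = 0
      · rw [hi, h0]
      · exact h1 i hi
  exact ⟨this, h3 ▸ this⟩

theorem eq_mk {g : SL5} (hg : g ∈ C s) :
    (g : Matrix (Fin 5) (Fin 5) F2) = mk ((g : Matrix (Fin 5) (Fin 5) F2) 0 1)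
      (fun i => (g : Matrix (Fin 5) (Fin 5) F2) 0 i.succ.succ)
      (fun i => (g : Matrix (Fin 5) (Fin 5) F2) i.succ.succ 1) (blk g) := by
  obtain ⟨h1, h2, -⟩ := (mem_iff s hs g).mp hg
  obtain ⟨d0, d1⟩ := diag_one s hs hg
  ext i j
  fin_cases i <;> fin_cases j
  all_goals
    first
      | exact h1 _ (by decide)
      | exact h2 _ (by decide)
      | exact d0
      | exact d1
      | rfl

theorem det_blk {g : SL5} (hg : g ∈ C s) : (blk g).det = 1 := by
  rw [← det_mk ((g : Matrix (Fin 5) (Fin 5) F2) 0 1)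
      (fun i => (g : Matrix (Fin 5) (Fin 5) F2) 0 i.succ.succ)
      (fun i => (g : Matrix (Fin 5) (Fin 5) F2) i.succ.succ 1) (blk g), ← eq_mk s hs hg]
  exact g.det_coe

/-- The parametrisation of the centralizer. -/
noncomputable def equiv : C s ≃ F2 × (Fin 3 → F2) × (Fin 3 → F2) × SL3 where
  toFun g := ((g.1 : Matrix (Fin 5) (Fin 5) F2) 0 1,
    fun i => (g.1 : Matrix (Fin 5) (Fin 5) F2) 0 i.succ.succ,
    fun i => (g.1 : Matrix (Fin 5) (Fin 5) F2) i.succ.succ 1, ⟨blk g.1, det_blk s hs g.2⟩)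
  invFun p := ⟨⟨mk p.1 p.2.1 p.2.2.1 p.2.2.2.1, by rw [det_mk]; exact p.2.2.2.2⟩, by
    refine (mem_iff s hs _).mpr ⟨fun i hi => ?_, fun j hj => ?_, rfl⟩
    · fin_cases i <;> first | exact absurd rfl hi | rfl
    · fin_cases j <;> first | exact absurd rfl hj | rfl⟩
  left_inv g := Subtype.ext (Subtype.ext (eq_mk s hs g.2).symm)
  right_inv p := by
    obtain ⟨a, u, v, A⟩ := p
    refine Prod.ext rfl (Prod.ext ?_ (Prod.ext ?_ ?_))
    · funext i; fin_cases i <;> rfl
    · funext i; fin_cases i <;> rfl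
    · apply Subtype.ext
      ext i j
      fin_cases i <;> fin_cases j <;> rfl

omit hs in
theorem card_SL3 : Nat.card SL3 = 168 := by
  rw [Nat.card_eq_fintype_card]
  decide +kernel

theorem card_centralizer : Nat.card (C s) = 21504 := by
  rw [Nat.card_congr (equiv s hs), Nat.card_prod, Nat.card_prod, Nat.card_prod, card_SL3]
  simp

omit hs in
theorem blk_transvection : ∀ p q : Fin 5, (p = 0 ∧ 2 ≤ q) ∨ (2 ≤ p ∧ q = 1) → ∀ i j : Fin 3,
    Matrix.transvection p q (1 : F2) (⟨i.val + 2, by omega⟩ : Fin 5) (⟨j.val + 2, by omega⟩ : Fin 5) =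
      (if i = j then 1 else 0) := by
  decide +kernel

omit hs in
theorem mem_transvection : ∀ p q : Fin 5, (p = 0 ∧ 2 ≤ q) ∨ (2 ≤ p ∧ q = 1) →
    (∀ i, i ≠ 0 → Matrix.transvection p q (1 : F2) i 0 = 0) ∧
      (∀ j, j ≠ 1 → Matrix.transvection p q (1 : F2) 1 j = 0) ∧
        Matrix.transvection p q (1 : F2) 0 0 = Matrix.transvection p q (1 : F2) 1 1 := by
  decide

/-- The block homomorphism. -/
noncomputable def blkHom : C s →* SL3 :=
  MonoidHom.mk' (fun g => ⟨blk g.1, det_blk s hs g.2⟩) (by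
    intro g h
    apply Subtype.ext
    ext i j
    obtain ⟨h1, -, -⟩ := (mem_iff s hs g.1).mp g.2
    show ((g.1 : Matrix (Fin 5) (Fin 5) F2) * (h.1 : Matrix (Fin 5) (Fin 5) F2)) i.succ.succ j.succ.succ
      = (blk g.1 * blk h.1) i j
    rw [Matrix.mul_apply, Matrix.mul_apply, Fin.sum_univ_succ, Fin.sum_univ_succ]
    obtain ⟨-, h2, -⟩ := (mem_iff s hs h.1).mp h.2
    have z0 := h1 i.succ.succ (Fin.succ_ne_zero _)
    have z1 := h2 j.succ.succ (by revert j; decide)
    simp [blk, z0, z1])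

/-- The maximal normal 2-subgroup of the centralizer. -/
noncomputable def Q : Subgroup (C s) := (blkHom s hs).ker

theorem Q_normal : (Q s hs).Normal := MonoidHom.normal_ker _

theorem Q_isPGroup : IsPGroup 2 (Q s hs) := by
  refine IsPGroup.of_card (n := 7) ?_
  have hsurj : Function.Surjective (blkHom s hs) := fun A =>
    ⟨(equiv s hs).symm (0, 0, 0, A), congrArg (fun p => p.2.2.2)
      ((equiv s hs).apply_symm_apply (0, 0, 0, A))⟩
  have h := Subgroup.card_mul_index (blkHom s hs).ker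
  rw [Subgroup.index_ker, MonoidHom.range_eq_top.mpr hsurj, Subgroup.card_top, card_SL3,
    card_centralizer s hs] at h
  show Nat.card (blkHom s hs).ker = 2 ^ 7
  omega

theorem centralizer_Q {x : C s} (hx : ∀ q ∈ Q s hs, q * x = x * q) :
    (x : SL5) = 1 ∨ (x : SL5) = s := by
  have hQ : ∀ p q : Fin 5, (p = 0 ∧ 2 ≤ q) ∨ (2 ≤ p ∧ q = 1) →
      (∀ i, i ≠ p → (x.1 : Matrix (Fin 5) (Fin 5) F2) i p = 0) ∧
      (∀ j, j ≠ q → (x.1 : Matrix (Fin 5) (Fin 5) F2) q j = 0) ∧
      (x.1 : Matrix (Fin 5) (Fin 5) F2) p p = (x.1 : Matrix (Fin 5) (Fin 5) F2) q q := by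
    intro p q hpq
    have hne : p ≠ q := by rintro rfl; omega
    let t : SL5 := ⟨Matrix.transvection p q 1, Matrix.det_transvection_of_ne p q hne 1⟩
    have htC : t ∈ C s := by
      exact (mem_iff s hs t).mpr (mem_transvection p q hpq)
    have htQ : (⟨t, htC⟩ : C s) ∈ Q s hs := by
      refine MonoidHom.mem_ker.mpr (Subtype.ext ?_)
      ext i j
      show _ = (1 : Matrix (Fin 3) (Fin 3) F2) i j
      rw [Matrix.one_apply]
      exact blk_transvection p q hpq i j
    have := congrArg (fun g : C s => ((g : SL5) : Matrix (Fin 5) (Fin 5) F2)) (hx _ htQ)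
    exact commute_single (commute_transvection this.symm)
  obtain ⟨h02a, h02b, e02⟩ := hQ 0 2 (by decide)
  obtain ⟨-, h03b, e03⟩ := hQ 0 3 (by decide)
  obtain ⟨-, h04b, e04⟩ := hQ 0 4 (by decide)
  obtain ⟨h21a, h21b, -⟩ := hQ 2 1 (by decide)
  obtain ⟨h31a, -, -⟩ := hQ 3 1 (by decide)
  obtain ⟨h41a, -, -⟩ := hQ 4 1 (by decide)
  obtain ⟨d0, d1⟩ := diag_one s hs x.2
  have key : (x.1 : Matrix (Fin 5) (Fin 5) F2) = mk ((x.1 : Matrix (Fin 5) (Fin 5) F2) 0 1) 0 0 1 := by
    ext i j
    fin_cases i <;> fin_cases j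
    all_goals
      first
        | exact h02a _ (by decide)
        | exact h02b _ (by decide)
        | exact h03b _ (by decide)
        | exact h04b _ (by decide)
        | exact h21a _ (by decide)
        | exact h21b _ (by decide)
        | exact h31a _ (by decide)
        | exact h41a _ (by decide)
        | exact d0
        | exact d1
        | exact e02.symm.trans d0
        | exact e03.symm.trans d0
        | exact e04.symm.trans d0
        | rfl
  by_cases ha : (x.1 : Matrix (Fin 5) (Fin 5) F2) 0 1 = 0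
  · left
    apply Subtype.ext
    rw [key, ha]
    show mk 0 0 0 1 = (1 : Matrix (Fin 5) (Fin 5) F2)
    decide
  · right
    apply Subtype.ext
    rw [key, f2_eq_one ha, hs]
    decide

omit hs in
theorem s_ne_one (hs : (s : Matrix (Fin 5) (Fin 5) F2) = Matrix.transvection 0 1 1) : s ≠ 1 := by
  intro h
  rw [h] at hs
  revert hs
  decide

/-- A Sylow 2-subgroup of an involution centralizer of this shape is a Sylow 2-subgroup. -/
theorem sylow_is_sylow {G : Type*} [Group G] [Finite G] {z : G} (hz : orderOf z = 2)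
    (e : Subgroup.centralizer ({z} : Set G) ≃* C s)
    (T : Sylow 2 (Subgroup.centralizer ({z} : Set G))) :
    ∃ P : Sylow 2 G, (P : Subgroup G) =
      (T : Subgroup (Subgroup.centralizer ({z} : Set G))).map (Subgroup.subtype _) := by
  haveI : Fact (Nat.Prime 2) := ⟨Nat.prime_two⟩
  let Cz := Subgroup.centralizer ({z} : Set G)
  haveI : (Subgroup.comap e.toMonoidHom (Q s hs)).Normal := (Q_normal s hs).comap _
  have hQT : Subgroup.comap e.toMonoidHom (Q s hs) ≤ (T : Subgroup Cz) :=
    IsPGroup.le_sylow_of_normal ((Q_isPGroup s hs).comap_of_injective _ e.injective) T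
  have hcomm : ∀ x : Cz, (∀ y ∈ T, y * x = x * y) → (e x : SL5) = 1 ∨ (e x : SL5) = s := by
    intro x hy
    refine centralizer_Q s hs fun q hq => ?_
    obtain ⟨y, rfl⟩ := e.surjective q
    rw [← map_mul, ← map_mul, hy y (hQT hq)]
  refine sylow_centralizer hz T fun x _ hy => ?_
  have hzC : z ∈ Cz := Subgroup.mem_centralizer_singleton_iff.mpr rfl
  have hzne : (e ⟨z, hzC⟩ : SL5) ≠ 1 := by
    intro h
    have h1 : (⟨z, hzC⟩ : Cz) = 1 := e.injective (by rw [map_one]; exact Subtype.ext h)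
    have h2 : z = 1 := congrArg Subtype.val h1
    simp [h2] at hz
  have hze : (e ⟨z, hzC⟩ : SL5) = s := (hcomm _ fun y _ =>
    Subtype.ext (Subgroup.mem_centralizer_singleton_iff.mp y.2)).resolve_left hzne
  rcases hcomm x hy with h | h
  · left
    have h1 : x = 1 := e.injective (by rw [map_one]; exact Subtype.ext h)
    rw [h1]; rfl
  · right
    have h1 : x = ⟨z, hzC⟩ := e.injective (Subtype.ext (h.trans hze.symm))
    rw [h1]

end Cfsg.Agent.SporB.SL5
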