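import Cfsg.Agent.SporB.TwoCentral

set_option autoImplicit false
set_option linter.style.haveILetI false

namespace Cfsg.Agent.SporB

variable {G : Type*} [Group G]

theorem large_extraspecial [Finite G] (z : G) (hz : orderOf z = 2) (Q : Subgroup G)
    (hQC : Q ≤ Subgroup.centralizer ({z} : Set G))
    (hQn : ∀ g ∈ Subgroup.centralizer ({z} : Set G), ∀ q ∈ Q, g * q * g⁻¹ ∈ Q)
    (hQ2 : IsPGroup 2 Q) (hZ : Nat.card (Subgroup.center Q) = 2)
    (hlarge : Subgroup.centralizer (Q : Set G) ≤ Q) :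
    (∃ P : Sylow 2 G, (P : Subgroup G) ≤ Subgroup.centralizer ({z} : Set G)) ∧
      ∀ u : G, orderOf u = 2 →
        (∃ P : Sylow 2 G, (P : Subgroup G) ≤ Subgroup.centralizer ({u} : Set G)) → IsConj z u := by
  haveI : Fact (Nat.Prime 2) := ⟨Nat.prime_two⟩
  have hzQ : z ∈ Q := hlarge (Subgroup.mem_centralizer_iff.mpr fun q hq =>
    Subgroup.mem_centralizer_singleton_iff.mp (hQC hq))
  have hzc : (⟨z, hzQ⟩ : Q) ∈ Subgroup.center Q := Subgroup.mem_center_iff.mpr fun q =>
    Subtype.ext (Subgroup.mem_centralizer_singleton_iff.mp (hQC q.2))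
  have hcent : ∀ x ∈ Subgroup.centralizer (Q : Set G), x = 1 ∨ x = z := by
    intro x hx
    have hxc : (⟨x, hlarge hx⟩ : Q) ∈ Subgroup.center Q := Subgroup.mem_center_iff.mpr fun q =>
      Subtype.ext (Subgroup.mem_centralizer_iff.mp hx q q.2)
    by_contra hne
    push Not at hne
    obtain ⟨a, b, hab, huniv⟩ := Nat.card_eq_two_iff.mp hZ
    have key : ∀ y : Subgroup.center Q, y = a ∨ y = b := fun y => by
      have := Set.mem_univ y
      rw [← huniv] at this
      simpa using this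
    have hne1 : z ≠ 1 := fun h => by simp [h] at hz
    have e : ∀ (y : G) (hy : y ∈ Q) (hy' : (⟨y, hy⟩ : Q) ∈ Subgroup.center Q),
        y = ((a : Q) : G) ∨ y = ((b : Q) : G) := fun y hy hy' =>
      (key ⟨_, hy'⟩).imp (fun h => congrArg (fun t : Subgroup.center Q => ((t : Q) : G)) h)
        (fun h => congrArg (fun t : Subgroup.center Q => ((t : Q) : G)) h)
    rcases e x _ hxc with h1 | h1 <;> rcases e z _ hzc with h2 | h2 <;>
      rcases e 1 (one_mem Q) (one_mem (Subgroup.center Q)) with h3 | h3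
    all_goals first
      | exact hne.2 (h1.trans h2.symm)
      | exact hne.1 (h1.trans h3.symm)
      | exact hne1 (h2.trans h3.symm)
  let C := Subgroup.centralizer ({z} : Set G)
  haveI : (Subgroup.comap C.subtype Q).Normal := ⟨fun n hn g => hQn g g.2 n hn⟩
  let T : Sylow 2 C := default
  have hQT : Q.subgroupOf C ≤ (T : Subgroup C) :=
    IsPGroup.le_sylow_of_normal (hQ2.comap_subtype) T
  have hcen : ∀ x ∈ T, (∀ y ∈ T, y * x = x * y) → (x : G) = 1 ∨ (x : G) = z := by
    intro x _ hy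
    refine hcent _ (Subgroup.mem_centralizer_iff.mpr fun q hq => ?_)
    exact congrArg Subtype.val (hy ⟨q, hQC hq⟩ (hQT hq))
  obtain ⟨P, hP⟩ := sylow_centralizer hz T hcen
  refine ⟨⟨P, hP.le.trans (Subgroup.map_subtype_le _)⟩, fun u hu ⟨R, hR⟩ => ?_⟩
  obtain ⟨g, hg⟩ := MulAction.exists_smul_eq G R P
  have hu' : ∀ y ∈ R, y * u = u * y := fun y hy =>
    Subgroup.mem_centralizer_singleton_iff.mp (hR hy)
  have huR : u ∈ R := mem_sylow_of_commute hu R hu'
  have key : g * u * g⁻¹ = 1 ∨ g * u * g⁻¹ = z := by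
    refine hcent _ (Subgroup.mem_centralizer_iff.mpr fun q hq => ?_)
    have hqP : q ∈ (P : Subgroup G) := hP.ge ⟨⟨q, hQC hq⟩, hQT hq, rfl⟩
    rw [← hg, Sylow.coe_subgroup_smul] at hqP
    rw [Subgroup.mem_pointwise_smul_iff_inv_smul_mem] at hqP
    have h1 := hu' _ hqP
    simp only [MulAut.smul_def, ← map_inv, MulAut.conj_apply, inv_inv] at h1
    calc q * (g * u * g⁻¹) = g * ((g⁻¹ * q * g) * u) * g⁻¹ := by simp [mul_assoc]
      _ = g * (u * (g⁻¹ * q * g)) * g⁻¹ := by rw [h1]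
      _ = (g * u * g⁻¹) * q := by simp [mul_assoc]
  rcases key with h | h
  · exact absurd (conj_eq_one_iff.mp h) (fun h' => by simp [h'] at hu)
  · exact (isConj_iff.mpr ⟨g, h⟩).symm

end Cfsg.Agent.SporB
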